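import Mathlib
import Cfsg.Agent.Lib.helper15.FourierIdem

set_option autoImplicit false
set_option linter.unusedSectionVars false
set_option linter.unusedSimpArgs false

/-! Project SLM (S2332): definitions.  Index type of the big group is `Unit ⊕ κ`; the unipotent
radical `xQ u` (first row), the Levi elements `dL δ B` (block diagonal), general transvections
`tv y η = 1 + y ηᵀ`, Fourier idempotents of a family `(κ → F) → G` in a representation, the fixed
space and the representation of a normalising group on it. -/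

namespace Cfsg.Agent.Lib.helper15.SLM

open Matrix

section mats

variable {F : Type*} [Field F] {κ : Type*} [Fintype κ] [DecidableEq κ]

/-- the transvection matrix `1 + y ηᵀ` -/
def tvMat (y η : κ → F) : Matrix κ κ F := 1 + vecMulVec y η

theorem tvMat_apply (y η : κ → F) (i j : κ) :
    tvMat y η i j = (if i = j then 1 else 0) + y i * η j := by
  simp [tvMat, Matrix.one_apply, vecMulVec_apply]

theorem tvMat_mulVec (y η x : κ → F) : tvMat y η *ᵥ x = x + (η ⬝ᵥ x) • y := by
  unfold tvMat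
  rw [Matrix.add_mulVec, Matrix.one_mulVec]
  congr 1
  ext i
  simp only [mulVec, vecMulVec_apply, dotProduct, Pi.smul_apply, smul_eq_mul]
  rw [Finset.sum_mul]
  refine Finset.sum_congr rfl fun j _ => ?_
  ring

theorem vecMul_tvMat (y η x : κ → F) : x ᵥ* tvMat y η = x + (x ⬝ᵥ y) • η := by
  unfold tvMat
  rw [Matrix.vecMul_add, Matrix.vecMul_one]
  congr 1
  ext i
  simp only [vecMul, vecMulVec_apply, dotProduct, Pi.smul_apply, smul_eq_mul]
  rw [Finset.sum_mul]
  refine Finset.sum_congr rfl fun j _ => ?_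
  ring

theorem tvMat_zero_right (y : κ → F) : tvMat y 0 = 1 := by
  ext i j
  simp [tvMat_apply, Matrix.one_apply]

theorem tvMat_mul (y η η' : κ → F) (h : η ⬝ᵥ y = 0) :
    tvMat y η * tvMat y η' = tvMat y (η + η') := by
  unfold tvMat
  rw [Matrix.add_mul, Matrix.mul_add, Matrix.mul_add, Matrix.one_mul, Matrix.mul_one,
    Matrix.one_mul]
  have h2 : vecMulVec y η * vecMulVec y η' = 0 := by
    ext i j
    simp only [Matrix.mul_apply, vecMulVec_apply, Matrix.zero_apply]
    have : ∑ k, y i * η k * (y k * η' j) = y i * (η ⬝ᵥ y) * η' j := by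
      simp only [dotProduct, Finset.mul_sum, Finset.sum_mul]
      refine Finset.sum_congr rfl fun k _ => ?_
      ring
    rw [this, h]
    ring
  rw [h2, add_zero]
  ext i j
  simp only [Matrix.add_apply, vecMulVec_apply, Pi.add_apply]
  ring

theorem tvMat_det (y η : κ → F) (h : η ⬝ᵥ y = 0) : (tvMat y η).det = 1 := by
  have h1 : tvMat y η = 1 + replicateCol Unit y * replicateRow Unit η := by
    ext i j
    simp [tvMat_apply, Matrix.mul_apply, Matrix.one_apply]
  rw [h1, Matrix.det_one_add_replicateCol_mul_replicateRow, h, add_zero]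

/-- the transvection `1 + y ηᵀ` as an element of the special linear group -/
def tv (y η : κ → F) (h : η ⬝ᵥ y = 0) : SpecialLinearGroup κ F := ⟨tvMat y η, tvMat_det y η h⟩

@[simp] theorem coe_tv (y η : κ → F) (h : η ⬝ᵥ y = 0) :
    ((tv y η h : SpecialLinearGroup κ F) : Matrix κ κ F) = tvMat y η := rfl

/-- conjugation of a transvection matrix -/
theorem conj_tvMat (B Binv : Matrix κ κ F) (hB : B * Binv = 1) (y η : κ → F) :
    B * tvMat y η * Binv = tvMat (B *ᵥ y) (η ᵥ* Binv) := by
  unfold tvMat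
  rw [Matrix.mul_add, Matrix.add_mul, Matrix.mul_one, hB]
  congr 1
  ext i j
  simp only [Matrix.mul_apply, vecMulVec_apply, mulVec, vecMul, dotProduct, Finset.sum_mul,
    Finset.mul_sum]
  refine Finset.sum_congr rfl fun k _ => Finset.sum_congr rfl fun l _ => ?_
  ring

/-- the first-row unipotent matrix -/
def xMat (u : κ → F) : Matrix (Unit ⊕ κ) (Unit ⊕ κ) F :=
  fromBlocks 1 (replicateRow Unit u) 0 1

theorem xMat_det (u : κ → F) : (xMat u).det = 1 := by
  unfold xMat
  rw [Matrix.det_fromBlocks_zero₂₁, Matrix.det_one, Matrix.det_one, one_mul]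

/-- the first-row unipotent element of the special linear group -/
def xQ (u : κ → F) : SpecialLinearGroup (Unit ⊕ κ) F := ⟨xMat u, xMat_det u⟩

@[simp] theorem coe_xQ (u : κ → F) :
    ((xQ u : SpecialLinearGroup (Unit ⊕ κ) F) : Matrix (Unit ⊕ κ) (Unit ⊕ κ) F) = xMat u := rfl

theorem xMat_mul (u u' : κ → F) : xMat u * xMat u' = xMat (u + u') := by
  unfold xMat
  rw [Matrix.fromBlocks_multiply]
  congr 1
  · simp
  · ext i j
    simp [add_comm]
  · simp
  · simp

theorem xQ_add (u u' : κ → F) : xQ (u + u') = xQ u * xQ u' := by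
  apply Subtype.ext
  show xMat (u + u') = xMat u * xMat u'
  rw [xMat_mul]

theorem xMat_zero : xMat (0 : κ → F) = 1 := by
  unfold xMat
  have : replicateRow Unit (0 : κ → F) = 0 := by
    ext i j
    simp
  rw [this, Matrix.fromBlocks_one]

theorem xQ_zero : xQ (0 : κ → F) = 1 := Subtype.ext xMat_zero

theorem xMat_injective : Function.Injective (xMat : (κ → F) → _) := by
  intro u u' h
  funext j
  have := congrFun (congrFun h (Sum.inl ())) (Sum.inr j)
  simpa [xMat] using this

theorem xQ_injective : Function.Injective (xQ : (κ → F) → SpecialLinearGroup (Unit ⊕ κ) F) := by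
  intro u u' h
  exact xMat_injective (congrArg Subtype.val h)

/-- `xQ u` is the transvection `1 + e₀ ũᵀ` -/
theorem xMat_eq_tvMat (u : κ → F) :
    xMat u = tvMat (Sum.elim (fun _ => (1 : F)) (fun _ => 0)) (Sum.elim (fun _ => 0) u) := by
  ext i j
  rcases i with i | i <;> rcases j with j | j <;>
    simp [xMat, tvMat_apply, Matrix.one_apply]

/-- block diagonal matrix `diag(δ, B)` -/
def dMat (δ : F) (B : Matrix κ κ F) : Matrix (Unit ⊕ κ) (Unit ⊕ κ) F :=
  fromBlocks (δ • (1 : Matrix Unit Unit F)) 0 0 B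

theorem dMat_det (δ : F) (B : Matrix κ κ F) : (dMat δ B).det = δ * B.det := by
  unfold dMat
  rw [Matrix.det_fromBlocks_zero₂₁, Matrix.det_smul, Matrix.det_one]
  simp

theorem dMat_mul (δ δ' : F) (B B' : Matrix κ κ F) :
    dMat δ B * dMat δ' B' = dMat (δ * δ') (B * B') := by
  unfold dMat
  rw [Matrix.fromBlocks_multiply]
  congr 1
  · ext i j
    simp [Matrix.mul_apply, Matrix.one_apply, mul_comm, mul_assoc]
  · simp
  · simp
  · simp

theorem dMat_one : dMat (1 : F) (1 : Matrix κ κ F) = 1 := by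
  unfold dMat
  rw [one_smul, Matrix.fromBlocks_one]

/-- the Levi element `diag(δ, B)`, `δ det B = 1` -/
def dL (δ : F) (B : Matrix κ κ F) (h : δ * B.det = 1) : SpecialLinearGroup (Unit ⊕ κ) F :=
  ⟨dMat δ B, by rw [dMat_det, h]⟩

@[simp] theorem coe_dL (δ : F) (B : Matrix κ κ F) (h : δ * B.det = 1) :
    ((dL δ B h : SpecialLinearGroup (Unit ⊕ κ) F) : Matrix (Unit ⊕ κ) (Unit ⊕ κ) F) = dMat δ B :=
  rfl

theorem dL_mul (δ δ' : F) (B B' : Matrix κ κ F) (h : δ * B.det = 1) (h' : δ' * B'.det = 1) :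
    dL δ B h * dL δ' B' h' =
      dL (δ * δ') (B * B') (by rw [Matrix.det_mul]; linear_combination B'.det * δ' * h + h') := by
  apply Subtype.ext
  show dMat δ B * dMat δ' B' = dMat (δ * δ') (B * B')
  rw [dMat_mul]

/-- how Levi matrices move the first-row unipotents -/
theorem dMat_mul_xMat (δ : F) (B : Matrix κ κ F) (u u' : κ → F) (h : u' ᵥ* B = δ • u) :
    dMat δ B * xMat u = xMat u' * dMat δ B := by
  unfold dMat xMat
  rw [Matrix.fromBlocks_multiply, Matrix.fromBlocks_multiply]
  congr 1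
  · simp
  · ext i j
    have := congrFun h j
    simp only [Matrix.smul_mul, Matrix.one_mul, Matrix.mul_zero, add_zero, Matrix.mul_one,
      zero_add, Matrix.smul_apply, replicateRow_apply, smul_eq_mul, Matrix.mul_apply]
    simp only [vecMul, dotProduct, Pi.smul_apply, smul_eq_mul] at this
    rw [← this]
  · simp
  · simp

theorem dL_mul_xQ (δ : F) (B : Matrix κ κ F) (hd : δ * B.det = 1) (u u' : κ → F)
    (h : u' ᵥ* B = δ • u) : dL δ B hd * xQ u = xQ u' * dL δ B hd := by
  apply Subtype.ext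
  show dMat δ B * xMat u = xMat u' * dMat δ B
  exact dMat_mul_xMat δ B u u' h

/-- the embedding `GL κ F → SL (Unit ⊕ κ) F`, `A ↦ diag((det A)⁻¹, A)` -/
noncomputable def dGL : GL κ F →* SpecialLinearGroup (Unit ⊕ κ) F where
  toFun A := dL ((A : Matrix κ κ F).det)⁻¹ (A : Matrix κ κ F)
    (inv_mul_cancel₀ ((Matrix.isUnit_iff_isUnit_det _).1 A.isUnit).ne_zero)
  map_one' := by
    apply Subtype.ext
    show dMat ((((1 : GL κ F) : Matrix κ κ F)).det)⁻¹ ((1 : GL κ F) : Matrix κ κ F) = 1
    rw [Units.val_one, Matrix.det_one, inv_one, dMat_one]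
  map_mul' A B := by
    apply Subtype.ext
    show dMat ((((A * B : GL κ F) : Matrix κ κ F)).det)⁻¹ ((A * B : GL κ F) : Matrix κ κ F) =
      dMat ((A : Matrix κ κ F).det)⁻¹ (A : Matrix κ κ F) *
        dMat ((B : Matrix κ κ F).det)⁻¹ (B : Matrix κ κ F)
    rw [dMat_mul, Units.val_mul, Matrix.det_mul, mul_inv]

/-- the embedding `SL κ F → SL (Unit ⊕ κ) F`, `A ↦ diag(1, A)` -/
noncomputable def dSL : SpecialLinearGroup κ F →* SpecialLinearGroup (Unit ⊕ κ) F :=
  dGL.comp SpecialLinearGroup.toGL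

theorem coe_dGL (A : GL κ F) :
    ((dGL A : SpecialLinearGroup (Unit ⊕ κ) F) : Matrix (Unit ⊕ κ) (Unit ⊕ κ) F) =
      dMat ((A : Matrix κ κ F).det)⁻¹ (A : Matrix κ κ F) := rfl

theorem coe_dSL (A : SpecialLinearGroup κ F) :
    ((dSL A : SpecialLinearGroup (Unit ⊕ κ) F) : Matrix (Unit ⊕ κ) (Unit ⊕ κ) F) =
      dMat 1 (A : Matrix κ κ F) := by
  show dMat _ _ = _
  simp

/-- `diag(1, 1 + y ηᵀ)` is the transvection `1 + ỹ η̃ᵀ` of the big group -/
theorem dMat_tvMat (y η : κ → F) :
    dMat 1 (tvMat y η) = tvMat (Sum.elim (fun _ => (0 : F)) y) (Sum.elim (fun _ => 0) η) := by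
  ext i j
  rcases i with i | i <;> rcases j with j | j <;>
    simp [dMat, tvMat_apply, Matrix.one_apply]

end mats

section reps

variable {F : Type*} [Field F] [Fintype F] [DecidableEq F]
  {κ : Type*} [Fintype κ] [DecidableEq κ]
  {G : Type*} [Group G] {V : Type*} [AddCommGroup V] [Module ℂ V]

/-- Fourier idempotents of the family `ξ : (κ → F) → G` in the representation `σ`:
`e_w = q^{-|κ|} ∑_u χ₀(-(w·u)) σ(ξ u)` -/
noncomputable def eIdem (χ₀ : AddChar F ℂ) (σ : Representation ℂ G V) (ξ : (κ → F) → G)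
    (w : κ → F) : Module.End ℂ V :=
  Cfsg.Agent.Lib.helper15.FourierIdem.idem χ₀ (fun u => σ (ξ u)) w

/-- the space of vectors fixed by all `ξ u` -/
def fixSp (σ : Representation ℂ G V) (ξ : (κ → F) → G) : Submodule ℂ V where
  carrier := {v | ∀ u, σ (ξ u) v = v}
  add_mem' := by
    intro v w hv hw u
    rw [map_add, hv u, hw u]
  zero_mem' := by
    intro u
    rw [map_zero]
  smul_mem' := by
    intro c v hv u
    rw [map_smul, hv u]

theorem mem_fixSp {σ : Representation ℂ G V} {ξ : (κ → F) → G} {v : V} :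
    v ∈ fixSp σ ξ ↔ ∀ u, σ (ξ u) v = v := Iff.rfl

/-- a group `H` mapping to `G` and normalising the family `ξ` leaves the fixed space invariant -/
theorem fixSp_invariant (σ : Representation ℂ G V) (ξ : (κ → F) → G) {H : Type*} [Group H]
    (f : H →* G) (hf : ∀ h u, ∃ u', f h * ξ u = ξ u' * f h) (h : H) {v : V}
    (hv : v ∈ fixSp σ ξ) : σ (f h) v ∈ fixSp σ ξ := by
  intro u
  obtain ⟨u', hu'⟩ := hf h⁻¹ u
  have h1 : ξ u * f h = f h * ξ u' := by
    have h2 : f h * (f h⁻¹ * ξ u) * f h = f h * (ξ u' * f h⁻¹) * f h := by rw [hu']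
    rw [map_inv] at h2
    simpa [mul_assoc] using h2
  have h3 : σ (ξ u) (σ (f h) v) = σ (ξ u * f h) v := by rw [map_mul]; rfl
  rw [h3, h1, map_mul]
  show σ (f h) (σ (ξ u') v) = _
  rw [hv u']

/-- the representation of a normalising group on the fixed space -/
noncomputable def resFix (σ : Representation ℂ G V) (ξ : (κ → F) → G) {H : Type*} [Group H]
    (f : H →* G) (hf : ∀ h u, ∃ u', f h * ξ u = ξ u' * f h) :
    Representation ℂ H ↥(fixSp σ ξ) where
  toFun h := (σ (f h)).restrict (fun _ hv => fixSp_invariant σ ξ f hf h hv)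
  map_one' := by
    ext v
    simp
  map_mul' a b := by
    ext v
    simp

theorem resFix_apply (σ : Representation ℂ G V) (ξ : (κ → F) → G) {H : Type*} [Group H]
    (f : H →* G) (hf : ∀ h u, ∃ u', f h * ξ u = ξ u' * f h) (h : H) (v : ↥(fixSp σ ξ)) :
    ((resFix σ ξ f hf h v : ↥(fixSp σ ξ)) : V) = σ (f h) (v : V) := rfl

end reps

end Cfsg.Agent.Lib.helper15.SLM
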