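import Cfsg.Agent.Lib.Helper11.SLMD4
import Cfsg.Agent.Lib.Helper25.SLMD3
import Cfsg.Agent.Lib.Helper25.SLMD7
import Cfsg.Agent.Lib.helper2.SLMD5
import Cfsg.Agent.Lib.helper2.SLMD6
import Cfsg.Agent.Lib.Helper13.SLME1
import Cfsg.Agent.Lib.Helper13.SLME2
import Cfsg.Agent.Lib.Helper10.SLME3
import Cfsg.Agent.Lib.Helper13.SLMF1
import Cfsg.Agent.Lib.Helper27.SLMF3
import Cfsg.Agent.Lib.Helper29.SLM.SLMG

set_option autoImplicit false
set_option linter.unusedSectionVars false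
set_option linter.unusedVariables false

namespace Cfsg.Agent.Lib.helper15.SLM

open Matrix

section asm

variable {F : Type*} [Field F] [Fintype F] [DecidableEq F]

theorem h15_card_ge_two : 2 ≤ Fintype.card F := Fintype.one_lt_card

theorem h15_exists_prim : ∃ χ₀ : AddChar F ℂ, χ₀.IsPrimitive := by
  obtain ⟨χ0, hχ0⟩ := (AddChar.exists_apply_ne_zero (α := F) (a := (1 : F))).2 one_ne_zero
  refine ⟨χ0, AddChar.IsPrimitive.of_ne_one ?_⟩
  intro h
  apply hχ0
  rw [h]
  rfl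

/-- from `b ≥ N_m` to the bound on `k` -/
theorem h15_thin_goal (q m : ℕ) (hq2 : 2 ≤ q) (hm : 1 ≤ m) (k b : ℕ) (hk : k = q ^ m - 1 + b)
    (hb : (q ^ m - q) / (q - 1) + 1 ≤ b) : (q ^ (m + 1) - q) / (q - 1) ≤ k := by
  have h3 := (geom_facts q m hq2 hm).2.2.1
  have hpos : 1 ≤ q ^ m := Nat.one_le_pow _ _ (by omega)
  rw [h3, hk]
  omega

theorem h15_finrank_fin (k : ℕ) : Module.finrank ℂ (Fin k → ℂ) = k := by simp

/-- the three special cases (4,4), (5,3), (5,2) -/
theorem h15_special (q : ℕ) (hq : Fintype.card F = q) (m' : ℕ) (κ' : Type) [Fintype κ']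
    [DecidableEq κ'] (hκ' : Fintype.card κ' = m')
    (hcase : (m' = 2 ∧ q = 4) ∨ (m' = 3 ∧ q = 3) ∨ (m' = 3 ∧ q = 2))
    (k : ℕ) (ρ : Representation ℂ (SpecialLinearGroup (Unit ⊕ (Unit ⊕ κ')) F) (Fin k → ℂ))
    (hirr : ρ.IsIrreducible) (hk : 2 ≤ k) : (q ^ (m' + 2) - q) / (q - 1) ≤ k := by
  have hq2 : 2 ≤ q := hq ▸ h15_card_ge_two
  obtain ⟨χ₀, hχ₀⟩ := h15_exists_prim (F := F)
  have hκ : Fintype.card (Unit ⊕ κ') = m' + 1 := by
    rw [Fintype.card_sum, hκ', Fintype.card_unit, add_comm]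
  have hm2 : 2 ≤ m' + 1 := by rcases hcase with h | h | h <;> omega
  have hfin := h15_finrank_fin k
  rcases thin_or_big q (m' + 1) hq hκ hm2 ρ hirr (by rw [hfin]; exact hk) with hbig | ⟨b, hkb, hb, hc⟩
  · rw [hfin] at hbig
    exact le_trans (geom_facts q (m' + 1) hq2 (by omega)).2.2.2.2 hbig
  · rw [hfin] at hkb
    have hex : (m' + 1 + 1, q) ≠ (3, 2) ∧ (m' + 1 + 1, q) ≠ (3, 4) ∧ (m' + 1 + 1, q) ≠ (4, 2) ∧
        (m' + 1 + 1, q) ≠ (4, 3) := by
      rcases hcase with ⟨h1, h2⟩ | ⟨h1, h2⟩ | ⟨h1, h2⟩ <;> subst h1 <;> subst h2 <;> decide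
    have htr : ∀ (y η : Unit ⊕ κ' → F) (h : η ⬝ᵥ y = 0), y ≠ 0 → η ≠ 0 →
        LinearMap.trace ℂ (Fin k → ℂ) (ρ (dSL (tv y η h)) * eIdem χ₀ ρ xQ 0) =
          (b : ℂ) - (q : ℂ) ^ m' := by
      intro y η h hy hη
      have := level0_trace q (m' + 1) hq hκ hm2 hex χ₀ hχ₀ ρ b (by rw [hfin]; exact hkb) hc y η hy hη h
      simpa using this
    apply h15_thin_goal q (m' + 1) hq2 (by omega) k b hkb
    rcases hcase with ⟨h1, h2⟩ | ⟨h1, h2⟩ | ⟨h1, h2⟩
    · -- (4,4)
      subst h1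
      subst h2
      have hl := level1_bound 4 2 hq (by norm_num) hκ' le_rfl χ₀ hχ₀ ρ b hb htr
      have hint := thin_integrality 4 3 hq hκ (by norm_num) ρ hirr b (by omega) hc
      rw [hfin, hkb] at hint
      norm_num at hl hint ⊢
      by_contra hcon
      push Not at hcon
      interval_cases b <;> omega
    · -- (5,3)
      subst h1
      subst h2
      have hl := level1_bound 3 3 hq (by norm_num) hκ' (by norm_num) χ₀ hχ₀ ρ b hb htr
      have hint := thin_integrality 3 4 hq hκ (by norm_num) ρ hirr b (by omega) hc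
      rw [hfin, hkb] at hint
      norm_num at hl hint ⊢
      by_contra hcon
      push Not at hcon
      interval_cases b <;> omega
    · -- (5,2)
      subst h1
      subst h2
      have h15 := case_five_two hq hκ' χ₀ hχ₀ ρ hirr b (by rw [hfin]; exact hkb) hb hc
        (by
          intro y η h hy hη
          have := htr y η h hy hη
          simpa using this)
      norm_num
      exact h15

/-- `K = N_m ≥ q² + q + 1` for `m ≥ 3` -/
theorem h15_K_ge (q m : ℕ) (hq2 : 2 ≤ q) (hm : 3 ≤ m) :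
    q * q + q + 1 ≤ (q ^ m - 1) / (q - 1) := by
  obtain ⟨j, rfl⟩ : ∃ j, m = j + 3 := ⟨m - 3, by omega⟩
  have h1 := (geom_facts q (j + 2) hq2 (by omega)).2.2.2.1
  have h2 := (geom_facts q (j + 1) hq2 (by omega)).2.2.2.1
  have h3 : 1 ≤ (q ^ (j + 1) - 1) / (q - 1) := by
    have h4 := (geom_facts q (j + 1) hq2 (by omega)).1
    have h5 : 1 ≤ q ^ (j + 1) - 1 := by
      have : 2 ≤ q ^ (j + 1) := by
        calc 2 ≤ q := hq2
          _ = q ^ 1 := (pow_one q).symm
          _ ≤ q ^ (j + 1) := Nat.pow_le_pow_right (by omega) (by omega)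
      omega
    by_contra hcon
    push Not at hcon
    have : (q ^ (j + 1) - 1) / (q - 1) = 0 := Nat.lt_one_iff.mp hcon
    rw [this, mul_zero] at h4
    omega
  rw [show j + 3 = j + 2 + 1 from rfl, h1, h2]
  nlinarith

/-- the main induction -/
theorem main_bound (q : ℕ) (hq : Fintype.card F = q) :
    ∀ m : ℕ, 2 ≤ m →
      ((m + 1, q) ≠ (3, 2) ∧ (m + 1, q) ≠ (3, 4) ∧ (m + 1, q) ≠ (4, 2) ∧ (m + 1, q) ≠ (4, 3)) →
      ∀ (κ : Type) [Fintype κ] [DecidableEq κ], Fintype.card κ = m →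
      ∀ (k : ℕ) (ρ : Representation ℂ (SpecialLinearGroup (Unit ⊕ κ) F) (Fin k → ℂ)),
        ρ.IsIrreducible → 2 ≤ k → (q ^ (m + 1) - q) / (q - 1) ≤ k := by
  intro m
  induction m using Nat.strong_induction_on with
  | _ m ih =>
  intro hm2 hex κ _ _ hκ k ρ hirr hk
  have hq2 : 2 ≤ q := hq ▸ h15_card_ge_two
  obtain ⟨χ₀, hχ₀⟩ := h15_exists_prim (F := F)
  have hfin := h15_finrank_fin k
  -- the special cases first
  by_cases hsp : (m = 3 ∧ q = 4) ∨ (m = 4 ∧ q = 3) ∨ (m = 4 ∧ q = 2)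
  · have hm1 : Fintype.card (Unit ⊕ Fin (m - 1)) = m := by
      rw [Fintype.card_sum, Fintype.card_unit, Fintype.card_fin]
      omega
    have e : Unit ⊕ κ ≃ Unit ⊕ (Unit ⊕ Fin (m - 1)) :=
      Equiv.sumCongr (Equiv.refl _) (Fintype.equivOfCardEq (by rw [hκ, hm1]))
    refine transport_bound e _ ?_ k ρ hirr hk
    intro k' ρ' hirr' hk'
    have := h15_special q hq (m - 1) (Fin (m - 1)) (by simp)
      (by rcases hsp with h | h | h <;> omega) k' ρ' hirr' hk'
    rwa [show m - 1 + 2 = m + 1 by omega] at this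
  push Not at hsp
  rcases thin_or_big q m hq hκ hm2 ρ hirr (by rw [hfin]; exact hk) with hbig | ⟨b, hkb, hb, hc⟩
  · rw [hfin] at hbig
    exact le_trans (geom_facts q m hq2 (by omega)).2.2.2.2 hbig
  rw [hfin] at hkb
  have htr : ∀ (y η : κ → F) (h : η ⬝ᵥ y = 0), y ≠ 0 → η ≠ 0 →
      LinearMap.trace ℂ (Fin k → ℂ) (ρ (dSL (tv y η h)) * eIdem χ₀ ρ xQ 0) =
        (b : ℂ) - (q : ℂ) ^ (m - 1) := by
    intro y η h hy hη
    exact level0_trace q m hq hκ hm2 hex χ₀ hχ₀ ρ b (by rw [hfin]; exact hkb) hc y η hy hη h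
  apply h15_thin_goal q m hq2 (by omega) k b hkb
  rcases Nat.eq_or_lt_of_le hm2 with hm | hm3
  · -- m = 2
    subst hm
    have hqq2 : q ≠ 2 := by
      intro h
      exact hex.1 (by rw [h])
    have hqq4 : q ≠ 4 := by
      intro h
      exact hex.2.1 (by rw [h])
    have hb1 := n3_bound q hq hκ χ₀ hχ₀ ρ b hb (by
      intro y η h hy hη
      have := htr y η h hy hη
      simpa using this)
    have hint := thin_integrality q 2 hq hκ le_rfl ρ hirr b (by omega) hc
    rw [hfin, hkb] at hint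
    have hpp : IsPrimePow q := hq ▸ FiniteField.isPrimePow_card F
    have h3 := arith_three q b hpp hqq2 hqq4 hb1 hint
    have h4 : (q ^ 2 - q) / (q - 1) = q := by
      have : q ^ 2 - q = q * (q - 1) := by
        rw [Nat.mul_sub, mul_one, sq]
      rw [this, Nat.mul_div_cancel _ (by omega)]
    rw [h4]
    exact h3
  · -- m ≥ 3, generic step
    have hm3' : 3 ≤ m := hm3
    have hexm : (m - 1 + 1, q) ≠ (3, 2) ∧ (m - 1 + 1, q) ≠ (3, 4) ∧ (m - 1 + 1, q) ≠ (4, 2) ∧
        (m - 1 + 1, q) ≠ (4, 3) := by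
      rw [show m - 1 + 1 = m by omega]
      refine ⟨?_, ?_, ?_, ?_⟩
      · intro h
        rw [Prod.mk.injEq] at h
        exact hex.2.2.1 (by rw [h.1, h.2])
      · intro h
        rw [Prod.mk.injEq] at h
        exact hsp.1 h.1 h.2
      · intro h
        rw [Prod.mk.injEq] at h
        exact hsp.2.2 h.1 h.2
      · intro h
        rw [Prod.mk.injEq] at h
        exact hsp.2.1 h.1 h.2
    have IH : ∀ (k' : ℕ) (τ : Representation ℂ (SpecialLinearGroup κ F) (Fin k' → ℂ)),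
        τ.IsIrreducible → 2 ≤ k' → (q ^ m - q) / (q - 1) ≤ k' := by
      intro k' τ hτ hk'
      have hm1 : Fintype.card (Unit ⊕ Fin (m - 1)) = m := by
        rw [Fintype.card_sum, Fintype.card_unit, Fintype.card_fin]
        omega
      have e : κ ≃ Unit ⊕ Fin (m - 1) := Fintype.equivOfCardEq (by rw [hκ, hm1])
      refine transport_bound e _ ?_ k' τ hτ hk'
      intro k'' ρ'' hirr'' hk''
      have := ih (m - 1) (by omega) (by omega) hexm (Fin (m - 1)) (by simp) k'' ρ'' hirr'' hk''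
      rwa [show m - 1 + 1 = m by omega] at this
    have hge := generic_step q m hq hκ hm3' IH χ₀ hχ₀ ρ b hb htr
    -- exclude equality
    rcases Nat.eq_or_lt_of_le hge with heq | hlt
    · exfalso
      obtain ⟨j, rfl⟩ : ∃ j, m = j + 1 := ⟨m - 1, by omega⟩
      set K := (q ^ (j + 1) - 1) / (q - 1) with hK
      have g1 := geom_facts q (j + 1) hq2 (by omega)
      have g0 := geom_facts q j hq2 (by omega)
      have hKge := h15_K_ge q (j + 1) hq2 hm3'
      rw [← hK] at hKge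
      -- b = K - 1
      have hbK : b = K - 1 := by
        rw [← heq, g0.2.1, hK, g0.2.2.2.1]
        omega
      have hint := thin_integrality q (j + 1) hq hκ (by omega) ρ hirr b (by omega) hc
      rw [hfin, hkb] at hint
      have e1 : (q - 1) * K = q ^ (j + 1) - 1 := g1.1
      have e2 : (q ^ (j + 1 + 1) - 1) / (q - 1) = q * K + 1 := g1.2.2.2.1
      have e3 : (q - 1) * ((q ^ (j + 1 + 1) - 1) / (q - 1)) = q ^ (j + 1 + 1) - 1 :=
        (geom_facts q (j + 1 + 1) hq2 (by omega)).1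
      have e4 : (q ^ (j + 1 + 1) - 1) * (q ^ (j + 1) - 1) / (q - 1) = (q * K + 1) * ((q - 1) * K) := by
        rw [← e3, e2, ← e1]
        rw [show (q - 1) * (q * K + 1) * ((q - 1) * K) = (q - 1) * ((q * K + 1) * ((q - 1) * K)) by ring]
        rw [Nat.mul_div_cancel_left _ (by omega)]
      rw [e4, ← e1] at hint
      have e5 : (q - 1) * K + (K - 1) = q * K - 1 := by
        have hK1 : 1 ≤ K := by omega
        have : (q - 1) * K + K = q * K := by
          have : q = (q - 1) + 1 := by omega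
          conv_rhs => rw [this, add_mul, one_mul]
        omega
      rw [hbK, e5, show K - 1 - 1 = K - 2 by omega] at hint
      exact arith_generic q K hq2 hKge hint
    · exact hlt

end asm

end Cfsg.Agent.Lib.helper15.SLM
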