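import Cfsg.Agent.Lib.helper15.SLM.Defs

set_option autoImplicit false
set_option linter.unusedSectionVars false
set_option linter.unusedVariables false

/-! Project SLM: the stabiliser of the first basis vector `e₀ = Sum.elim 1 0` in
`SL (Unit ⊕ κ) F` consists of the products `xQ u * dSL A`. -/

namespace Cfsg.Agent.Lib.helper15.SLM

open Matrix

section stab

variable {F : Type*} [Field F] {κ : Type*} [Fintype κ] [DecidableEq κ]

/-- the first basis vector -/
def e0 : Unit ⊕ κ → F := Sum.elim (fun _ => 1) (fun _ => 0)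

theorem xMat_mulVec_e0 (u : κ → F) : xMat u *ᵥ (e0 : Unit ⊕ κ → F) = e0 := by
  funext i
  rcases i with i | i
  · simp [xMat, e0, Matrix.mulVec, dotProduct, Fintype.sum_sum_type, Matrix.one_apply]
  · simp [xMat, e0, Matrix.mulVec, dotProduct, Fintype.sum_sum_type, Matrix.one_apply]

theorem dMat_one_mulVec_e0 (A : Matrix κ κ F) : dMat 1 A *ᵥ (e0 : Unit ⊕ κ → F) = e0 := by
  funext i
  rcases i with i | i
  · simp [dMat, e0, Matrix.mulVec, dotProduct, Fintype.sum_sum_type, Matrix.one_apply]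
  · simp [dMat, e0, Matrix.mulVec, dotProduct, Fintype.sum_sum_type, Matrix.one_apply]

theorem xQ_mulVec_e0 (u : κ → F) :
    ((xQ u : SpecialLinearGroup (Unit ⊕ κ) F) : Matrix (Unit ⊕ κ) (Unit ⊕ κ) F) *ᵥ e0 = e0 :=
  xMat_mulVec_e0 u

theorem dSL_mulVec_e0 (A : SpecialLinearGroup κ F) :
    ((dSL A : SpecialLinearGroup (Unit ⊕ κ) F) : Matrix (Unit ⊕ κ) (Unit ⊕ κ) F) *ᵥ e0 = e0 := by
  rw [coe_dSL]
  exact dMat_one_mulVec_e0 _

/-- an element of `SL (Unit ⊕ κ) F` fixing `e₀` is `xQ u * dSL A` -/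
theorem exists_xQ_dSL_of_fix (g : SpecialLinearGroup (Unit ⊕ κ) F)
    (hg : (g : Matrix (Unit ⊕ κ) (Unit ⊕ κ) F) *ᵥ e0 = e0) :
    ∃ (u : κ → F) (A : SpecialLinearGroup κ F), g = xQ u * dSL A := by
  set M : Matrix (Unit ⊕ κ) (Unit ⊕ κ) F := (g : Matrix (Unit ⊕ κ) (Unit ⊕ κ) F) with hM
  have h11 : M.toBlocks₁₁ = 1 := by
    ext i j
    have := congrFun hg (Sum.inl i)
    simp only [Matrix.mulVec, dotProduct, Fintype.sum_sum_type, e0, Sum.elim_inl, Sum.elim_inr,
      mul_one, mul_zero, Finset.sum_const_zero, add_zero, Finset.univ_unique,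
      Finset.sum_singleton] at this
    simp only [Matrix.toBlocks₁₁, Matrix.of_apply, Matrix.one_apply, Subsingleton.elim i j,
      if_true]
    exact this
  have h21 : M.toBlocks₂₁ = 0 := by
    ext i j
    have := congrFun hg (Sum.inr i)
    simp only [Matrix.mulVec, dotProduct, Fintype.sum_sum_type, e0, Sum.elim_inl, Sum.elim_inr,
      mul_one, mul_zero, Finset.sum_const_zero, add_zero, Finset.univ_unique,
      Finset.sum_singleton] at this
    simp only [Matrix.toBlocks₂₁, Matrix.of_apply, Matrix.zero_apply]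
    exact this
  have hMb : M = fromBlocks 1 M.toBlocks₁₂ 0 M.toBlocks₂₂ := by
    conv_lhs => rw [← Matrix.fromBlocks_toBlocks M, h11, h21]
  have hdet : M.toBlocks₂₂.det = 1 := by
    have h1 : M.det = 1 := g.2
    rw [hMb, Matrix.det_fromBlocks_zero₂₁, Matrix.det_one, one_mul] at h1
    simpa using h1
  set A : SpecialLinearGroup κ F := ⟨M.toBlocks₂₂, hdet⟩ with hA
  set u : κ → F := (fun j => M.toBlocks₁₂ () j) ᵥ* (M.toBlocks₂₂)⁻¹ with hu
  refine ⟨u, A, ?_⟩
  apply Subtype.ext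
  show M = xMat u * ((dSL A : SpecialLinearGroup (Unit ⊕ κ) F) : Matrix _ _ F)
  rw [coe_dSL]
  conv_lhs => rw [hMb]
  unfold xMat dMat
  rw [Matrix.fromBlocks_multiply]
  congr 1
  · simp
  · ext i j
    simp only [Matrix.one_mul, Matrix.mul_zero, zero_add, Matrix.mul_apply, replicateRow_apply,
      Matrix.zero_mul, add_zero]
    have h2 : (u ᵥ* M.toBlocks₂₂) j = M.toBlocks₁₂ () j := by
      rw [hu, Matrix.vecMul_vecMul, Matrix.nonsing_inv_mul _ (by rw [hdet]; exact isUnit_one),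
        Matrix.vecMul_one]
    rw [← h2]
    simp only [Matrix.vecMul, dotProduct]
    rfl
  · simp
  · simp [hA]

end stab

end Cfsg.Agent.Lib.helper15.SLM
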